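import Groth.Agent.CSALib.Split

/-!
# Separable maximal subfields
-/

set_option autoImplicit false

universe u v w

open TensorProduct

namespace Groth.Agent.CSALib

variable {k : Type u} [Field k]

theorem centralizer_eq_of_maximal {D : Type v} [Ring D] [Algebra k D] (L : Subalgebra k D)
    (hcomm : ∀ x ∈ L, ∀ y ∈ L, x * y = y * x)
    (hmax : ∀ L' : Subalgebra k D, (∀ x ∈ L', ∀ y ∈ L', x * y = y * x) → L ≤ L' → L' = L) :
    Subalgebra.centralizer k (L : Set D) = L := by
  refine le_antisymm (fun x hx => ?_) fun x hx => (Subalgebra.mem_centralizer_iff k).2 fun y hy =>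
    hcomm y hy x hx
  have hx' := (Subalgebra.mem_centralizer_iff k).1 hx
  let S := Algebra.adjoin k ((L : Set D) ∪ {x})
  have h : ∀ a ∈ (L : Set D) ∪ {x}, ∀ b ∈ (L : Set D) ∪ {x}, a * b = b * a := by
    rintro a (ha | ha) b (hb | hb)
    · exact hcomm a ha b hb
    · rw [Set.mem_singleton_iff.1 hb]; exact hx' a ha
    · rw [Set.mem_singleton_iff.1 ha]; exact (hx' b hb).symm
    · rw [Set.mem_singleton_iff.1 ha, Set.mem_singleton_iff.1 hb]
  have := Algebra.isMulCommutative_adjoin k h
  have hS := hmax S (fun a ha b hb => setLike_mul_comm (s := S) ha hb)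
    (fun y hy => Algebra.subset_adjoin (Or.inl hy))
  rw [← hS]
  exact Algebra.subset_adjoin (Or.inr rfl)

theorem isSimpleRing_of_comm {D : Type v} [DivisionRing D] [Algebra k D] [FiniteDimensional k D]
    (L : Subalgebra k D) (hcomm : ∀ x ∈ L, ∀ y ∈ L, x * y = y * x) : IsSimpleRing L := by
  let : CommRing L :=
    { (inferInstance : Ring L) with mul_comm := fun a b => Subtype.ext (hcomm _ a.2 _ b.2) }
  let : Field L := fieldOfFiniteDimensional k L
  exact DivisionRing.isSimpleRing L

theorem isSeparable_adjoinRoot {L : Type v} [Field L] (p : Polynomial L) [hp : Fact (Irreducible p)]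
    (hm : p.Monic) (hs : p.Separable) : Algebra.IsSeparable L (AdjoinRoot p) := by
  have h1 : IsSeparable L (AdjoinRoot.root p) := by
    rw [IsSeparable, AdjoinRoot.minpoly_root hm.ne_zero, hm.leadingCoeff, inv_one, map_one, mul_one]
    exact hs
  have := (IntermediateField.isSeparable_adjoin_simple_iff_isSeparable L (AdjoinRoot p)).mpr h1
  have htop : IntermediateField.adjoin L {AdjoinRoot.root p} = ⊤ :=
    IntermediateField.adjoin_eq_top_of_algebra _ _ AdjoinRoot.adjoinRoot_eq_top
  exact AlgEquiv.Algebra.isSeparable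
    ((IntermediateField.equivOfEq htop).trans IntermediateField.topEquiv)

theorem exists_separable_maximal (D : Type v) [DivisionRing D] [Algebra k D]
    [Algebra.IsCentral k D] [FiniteDimensional k D] :
    ∃ L : Subalgebra k D, (∀ x ∈ L, ∀ y ∈ L, x * y = y * x) ∧
      Subalgebra.centralizer k (L : Set D) = L ∧ Algebra.IsSeparable k L := by
  classical
  let P : ℕ → Prop := fun l => ∃ S : Subalgebra k D,
    (∀ x ∈ S, ∀ y ∈ S, x * y = y * x) ∧ Algebra.IsSeparable k S ∧ Module.finrank k S = l
  have hP : ∃ l, P l ∧ ∀ l', P l' → l' ≤ l := by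
    refine ⟨Nat.findGreatest P (Module.finrank k D), ?_, fun l' hl' => Nat.le_findGreatest ?_ hl'⟩
    · refine Nat.findGreatest_spec (P := P) (m := Module.finrank k (⊥ : Subalgebra k D))
        (Submodule.finrank_le (Subalgebra.toSubmodule (⊥ : Subalgebra k D)))
        ⟨⊥, fun x hx y hy => ?_, ?_, rfl⟩
      · obtain ⟨a, rfl⟩ := Algebra.mem_bot.1 hx
        exact Algebra.commutes a y
      · exact AlgEquiv.Algebra.isSeparable (Algebra.botEquiv k D).symm
    · obtain ⟨S, -, -, rfl⟩ := hl'
      exact Submodule.finrank_le (Subalgebra.toSubmodule S)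
  obtain ⟨l, ⟨L, hcomm, hsep, hl⟩, hmax⟩ := hP
  refine ⟨L, hcomm, ?_, hsep⟩
  have := isSimpleRing_of_comm L hcomm
  let : CommRing L :=
    { (inferInstance : Ring L) with mul_comm := fun a b => Subtype.ext (hcomm _ a.2 _ b.2) }
  let : Field L := fieldOfFiniteDimensional k L
  set C := Subalgebra.centralizer k (L : Set D) with hC
  have hle : L ≤ C := fun x hx => (Subalgebra.mem_centralizer_iff k).2 fun y hy => hcomm y hy x hx
  let : DivisionRing C := divisionRingOfFiniteDimensional k C
  let : Algebra L C := RingHom.toAlgebra' (Subalgebra.inclusion hle).toRingHom fun a c =>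
    Subtype.ext ((Subalgebra.mem_centralizer_iff k).1 c.2 a a.2)
  have : IsScalarTower k L C := IsScalarTower.of_algebraMap_eq fun r => rfl
  have : FiniteDimensional L C := Module.Finite.of_restrictScalars_finite k L C
  have : Algebra.IsCentral L C := ⟨fun z hz => by
    have hz' : (z : D) ∈ Subalgebra.centralizer k (C : Set D) :=
      (Subalgebra.mem_centralizer_iff k).2 fun y hy =>
        congrArg Subtype.val (Subalgebra.mem_center_iff.1 hz ⟨y, hy⟩)
    have hz'' := (SetLike.ext_iff.mp (centralizer_centralizer k D L) (z : D)).mp hz'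
    exact Algebra.mem_bot.2 ⟨⟨z, hz''⟩, Subtype.ext rfl⟩⟩
  by_cases htop : (⊥ : Subalgebra L C) = ⊤
  · refine le_antisymm (fun x hx => ?_) hle
    obtain ⟨a, ha⟩ := Algebra.mem_bot.1 (htop.ge (Algebra.mem_top (x := (⟨x, hx⟩ : C))))
    have : (a : D) = x := congrArg Subtype.val ha
    exact this ▸ a.2
  · exfalso
    obtain ⟨x, hx, hxs⟩ := JacobsonNoether.exists_separable_and_not_isCentral' htop
    have hxi : IsIntegral L x := IsSeparable.isIntegral hxs
    have : Fact (Irreducible (minpoly L x)) := ⟨minpoly.irreducible hxi⟩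
    have : Algebra.IsSeparable L (AdjoinRoot (minpoly L x)) :=
      isSeparable_adjoinRoot _ (minpoly.monic hxi) hxs
    have : Algebra.IsSeparable k (AdjoinRoot (minpoly L x)) := Algebra.IsSeparable.trans k L _
    let ψ₀ : AdjoinRoot (minpoly L x) →ₐ[L] C :=
      Ideal.Quotient.liftₐ _ (Polynomial.aeval x) fun a ha => by
        obtain ⟨b, rfl⟩ := Ideal.mem_span_singleton'.1 ha
        rw [map_mul, minpoly.aeval, mul_zero]
    let ψ : AdjoinRoot (minpoly L x) →ₐ[k] D := C.val.comp (ψ₀.restrictScalars k)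
    let e := AlgEquiv.ofInjective ψ (RingHom.injective ψ.toRingHom)
    have h1 : P (Module.finrank k ψ.range) := by
      refine ⟨ψ.range, ?_, AlgEquiv.Algebra.isSeparable e, rfl⟩
      rintro _ ⟨a, rfl⟩ _ ⟨b, rfl⟩
      show ψ a * ψ b = ψ b * ψ a
      rw [← map_mul, ← map_mul, mul_comm]
    have h2 : L ≤ ψ.range := fun a ha =>
      ⟨algebraMap L _ ⟨a, ha⟩, congrArg Subtype.val (ψ₀.commutes ⟨a, ha⟩)⟩
    have h3 : Subalgebra.toSubmodule L = Subalgebra.toSubmodule ψ.range :=
      Submodule.eq_of_le_of_finrank_le (Subalgebra.toSubmodule.monotone h2) ((hmax _ h1).trans hl.ge)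
    have h4 : (x : D) ∈ ψ.range := ⟨Ideal.Quotient.mk _ Polynomial.X,
      congrArg Subtype.val (Polynomial.aeval_X x)⟩
    rw [← Subalgebra.toSubmodule_injective h3] at h4
    exact hx (Algebra.mem_bot.2 ⟨⟨_, h4⟩, Subtype.ext rfl⟩)

theorem finrank_eq_sq {D : Type v} [DivisionRing D] [Algebra k D]
    [Algebra.IsCentral k D] [FiniteDimensional k D] (L : Subalgebra k D)
    (hcomm : ∀ x ∈ L, ∀ y ∈ L, x * y = y * x) (hc : Subalgebra.centralizer k (L : Set D) = L) :
    Module.finrank k D = Module.finrank k L ^ 2 := by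
  have := isSimpleRing_of_comm L hcomm
  rw [finrank_centralizer k D L, hc, sq]

theorem exists_separable_splitting (A : Type v) [Ring A] [Algebra k A] [Algebra.IsCentral k A]
    [IsSimpleRing A] [FiniteDimensional k A] :
    ∃ K : IntermediateField k (SeparableClosure k), FiniteDimensional k K ∧
      Curves.Splits k A K := by
  obtain ⟨d, -, -, m, D, _, _, hm, hD, -, ⟨eA⟩⟩ :=
    Brauer.exists_index (k := k) (T := A) ⟨inferInstance, inferInstance, inferInstance⟩
  have := hD.central; have := hD.finite; have : NeZero m := ⟨hm.ne'⟩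
  obtain ⟨L, hcomm, hc, hsep⟩ := exists_separable_maximal (k := k) D
  have hdim := finrank_eq_sq L hcomm hc
  let : CommRing L :=
    { (inferInstance : Ring L) with mul_comm := fun a b => Subtype.ext (hcomm _ a.2 _ b.2) }
  let : Field L := fieldOfFiniteDimensional k L
  let j : L →ₐ[k] SeparableClosure k := IsSepClosed.lift
  let e := AlgEquiv.ofInjectiveField j
  have hfin : FiniteDimensional k j.fieldRange := Module.Finite.equiv e.toLinearEquiv
  refine ⟨j.fieldRange, hfin, splits_congr eA.symm ((splits_matrix_iff hD m).mpr ?_)⟩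
  exact splits_of_subfield D hD j.fieldRange (L.val.comp e.symm.toAlgHom)
    (by rw [hdim]; exact congrArg (· ^ 2) e.toLinearEquiv.finrank_eq)

theorem splits_extend {A : Type v} [Ring A] [Algebra k A] (hA : Brauer.IsCSA k A)
    {K : Type w} [Field K] [Algebra k K] (L : Type w) [Field L] [Algebra k L] [Algebra K L]
    [IsScalarTower k K L] (h : Curves.Splits k A K) : Curves.Splits k A L := by
  rw [Brauer.splits_iff hA] at h ⊢
  obtain ⟨N, f, h0, hN⟩ := h
  let f' : A →ₐ[k] Matrix (Fin N) (Fin N) L :=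
    ((IsScalarTower.toAlgHom k K L).mapMatrix).comp
      ((f.restrictScalars k).comp Algebra.TensorProduct.includeRight)
  refine ⟨N, Algebra.TensorProduct.lift (Algebra.ofId L _) f' (fun x y => Algebra.commutes x _), h0, ?_⟩
  rw [Module.finrank_baseChange] at hN ⊢
  exact hN

end Groth.Agent.CSALib
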