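import Groth.Agent.Azumaya.CSA


/-!
# The double centralizer theorem
-/

set_option autoImplicit false

universe u v w

open TensorProduct MulOpposite

namespace Groth.Agent.CSALib

/-- Conjugation by a unit. -/
def conj (k : Type u) [CommRing k] {T : Type v} [Ring T] [Algebra k T] (a : Tˣ) : T ≃ₐ[k] T :=
  { toFun := fun x => (a : T) * x * (a⁻¹ : Tˣ)
    invFun := fun x => (a⁻¹ : Tˣ) * x * (a : T)
    left_inv := fun x => by simp [mul_assoc]
    right_inv := fun x => by simp [mul_assoc]
    map_mul' := fun x y => by simp [mul_assoc]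
    map_add' := fun x y => by simp [mul_add, add_mul]
    commutes' := fun r => by simp [← Algebra.commutes r] }

theorem map_centralizer {k : Type u} [CommRing k] {T : Type v} [Ring T] [Algebra k T]
    (σ : T ≃ₐ[k] T) (S S' : Set T) (h : σ '' S = S') :
    (Subalgebra.centralizer k S).map (σ : T →ₐ[k] T) = Subalgebra.centralizer k S' := by
  ext y
  simp only [Subalgebra.mem_map, Subalgebra.mem_centralizer_iff]
  constructor
  · rintro ⟨x, hx, rfl⟩ s hs
    obtain ⟨s₀, hs₀, rfl⟩ := h ▸ hs
    show σ s₀ * σ x = σ x * σ s₀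
    rw [← map_mul, ← map_mul, hx s₀ hs₀]
  · intro hy
    refine ⟨σ.symm y, fun s hs => σ.injective ?_, σ.apply_symm_apply y⟩
    rw [map_mul, map_mul, AlgEquiv.apply_symm_apply]
    exact hy _ (h ▸ ⟨s, hs, rfl⟩)

theorem isSimpleRing_left_of_tensor (k : Type u) [Field k] (C : Type v) [Ring C] [Algebra k C]
    [Nontrivial C] (M : Type w) [Ring M] [Algebra k M] [Nontrivial M]
    [IsSimpleRing (C ⊗[k] M)] : IsSimpleRing C := by
  refine IsSimpleRing.of_eq_bot_or_eq_top fun I => ?_
  rcases subsingleton_or_nontrivial I.ringCon.Quotient with hq | hq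
  · right
    rw [eq_top_iff]
    intro x _
    exact (RingCon.eq _).mp (Subsingleton.elim (x : I.ringCon.Quotient) ((0 : C) : I.ringCon.Quotient))
  · left
    let q : C →ₐ[k] I.ringCon.Quotient :=
      { I.ringCon.mk' with commutes' := fun r => rfl }
    have hinj : Function.Injective (Algebra.TensorProduct.map q (AlgHom.id k M)) :=
      RingHom.injective (Algebra.TensorProduct.map q (AlgHom.id k M)).toRingHom
    rw [eq_bot_iff]
    intro x hx
    have hx' : q x = 0 := (RingCon.eq _).mpr hx
    have : x ⊗ₜ[k] (1 : M) = 0 := hinj (by rw [Algebra.TensorProduct.map_tmul, hx', zero_tmul, map_zero])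
    exact Algebra.TensorProduct.includeLeft_injective (S := k) (A := C)
      (FaithfulSMul.algebraMap_injective k M) (this.trans (zero_tmul _ _).symm)

variable (k : Type u) [Field k] (A : Type v) [Ring A] [Algebra k A] [Algebra.IsCentral k A]
  [IsSimpleRing A] [FiniteDimensional k A] (B : Subalgebra k A) [IsSimpleRing B]

theorem centralizer_tensor_equiv :
    Nonempty ((Subalgebra.centralizer k (B : Set A)) ⊗[k] Module.End k B ≃ₐ[k] A ⊗[k] (↥B)ᵐᵒᵖ) := by
  let E := Module.End k B
  let f : B →ₐ[k] A ⊗[k] E :=
    (Algebra.TensorProduct.includeLeft : A →ₐ[k] A ⊗[k] E).comp B.val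
  let g : B →ₐ[k] A ⊗[k] E :=
    (Algebra.TensorProduct.includeRight : E →ₐ[k] A ⊗[k] E).comp (Algebra.lmul k B)
  have : IsSimpleRing E :=
    IsSimpleRing.of_ringEquiv (algEquivMatrix (Module.finBasis k B)).symm.toRingEquiv
      (by
        have : NeZero (Module.finrank k B) := ⟨(Module.finrank_pos (R := k) (M := B)).ne'⟩
        infer_instance)
  have : IsSimpleRing (A ⊗[k] E) := Azumaya.isSimpleRing_tensor k A E
  have : Algebra.IsCentral k (A ⊗[k] E) := Azumaya.isCentral_tensor k A E
  obtain ⟨a, ha⟩ := Azumaya.skolemNoether k (A ⊗[k] E) B f g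
  let R : (↥B)ᵐᵒᵖ →ₐ[k] E :=
    (AlgHom.mulLeftRight k B).comp Algebra.TensorProduct.includeRight
  have hRap : ∀ (b : (↥B)ᵐᵒᵖ) (z : B), R b z = z * b.unop := fun b z => by
    show AlgHom.mulLeftRight k B ((1 : B) ⊗ₜ[k] b) z = _
    rw [AlgHom.mulLeftRight_apply, one_mul]
  have hR : Subalgebra.centralizer k ((Algebra.lmul k B).range : Set E) = R.range := by
    ext φ
    rw [Subalgebra.mem_centralizer_iff]
    constructor
    · intro h
      refine ⟨op (φ 1), LinearMap.ext fun z => ?_⟩
      have : z * φ 1 = φ (z * 1) := LinearMap.congr_fun (h _ ⟨z, rfl⟩) (1 : B)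
      show R (op (φ 1)) z = φ z
      rw [hRap]
      simpa using this
    · rintro ⟨b, rfl⟩ _ ⟨x, rfl⟩
      refine LinearMap.ext fun z => ?_
      show x * R b z = R b (x * z)
      rw [hRap, hRap, mul_assoc]
  have hRinj : Function.Injective R := fun b c h => by
    have := LinearMap.congr_fun h (1 : B)
    rw [hRap, hRap, one_mul, one_mul] at this
    exact unop_injective this
  have himg : conj k a '' ((Algebra.TensorProduct.includeLeft : A →ₐ[k] A ⊗[k] E) '' (B : Set A)) =
      (Algebra.TensorProduct.includeRight : E →ₐ[k] A ⊗[k] E) ''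
        ((Algebra.lmul k B).range : Set E) := by
    ext y
    constructor
    · rintro ⟨_, ⟨b, hb, rfl⟩, rfl⟩
      exact ⟨_, ⟨⟨b, hb⟩, rfl⟩, ha ⟨b, hb⟩⟩
    · rintro ⟨_, ⟨b, rfl⟩, rfl⟩
      exact ⟨_, ⟨b, b.2, rfl⟩, (ha b).symm⟩
  have h1 := map_centralizer (conj k a) _ _ himg
  rw [Subalgebra.centralizer_coe_image_includeLeft_eq_center_tensorProduct,
    Subalgebra.centralizer_coe_image_includeRight_eq_center_tensorProduct, hR] at h1
  have h2 : (Algebra.TensorProduct.map (AlgHom.id k A) R.range.val).range =
      (Algebra.TensorProduct.map (AlgHom.id k A) R).range := by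
    rw [Algebra.TensorProduct.map_range, Algebra.TensorProduct.map_range, AlgHom.range_comp R,
      AlgHom.range_comp R.range.val, Subalgebra.range_val]
  rw [h2] at h1
  have hi1 : Function.Injective
      (Algebra.TensorProduct.map (Subalgebra.centralizer k (B : Set A)).val (AlgHom.id k E)) := by
    exact TensorProduct.map_injective_of_flat_flat _ _ Subtype.val_injective fun _ _ h => h
  have hi2 : Function.Injective (Algebra.TensorProduct.map (AlgHom.id k A) R) := by
    exact TensorProduct.map_injective_of_flat_flat _ _ (fun _ _ h => h) hRinj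
  exact ⟨(AlgEquiv.ofInjective _ hi1).trans (((conj k a).subalgebraMap _).trans
    ((Subalgebra.equivOfEq _ _ h1).trans (AlgEquiv.ofInjective _ hi2).symm))⟩

theorem isSimpleRing_centralizer : IsSimpleRing (Subalgebra.centralizer k (B : Set A)) := by
  obtain ⟨e⟩ := centralizer_tensor_equiv k A B
  have : IsSimpleRing (A ⊗[k] (↥B)ᵐᵒᵖ) := Azumaya.isSimpleRing_tensor k A _
  have : IsSimpleRing ((Subalgebra.centralizer k (B : Set A)) ⊗[k] Module.End k B) :=
    IsSimpleRing.of_ringEquiv e.symm.toRingEquiv inferInstance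
  exact isSimpleRing_left_of_tensor k _ (Module.End k B)

theorem finrank_centralizer :
    Module.finrank k A = Module.finrank k B *
      Module.finrank k (Subalgebra.centralizer k (B : Set A)) := by
  obtain ⟨e⟩ := centralizer_tensor_equiv k A B
  have h := e.toLinearEquiv.finrank_eq
  rw [Module.finrank_tensorProduct, Module.finrank_tensorProduct, Module.finrank_linearMap,
    ← (MulOpposite.opLinearEquiv k : B ≃ₗ[k] (↥B)ᵐᵒᵖ).finrank_eq, ← mul_assoc] at h
  rw [mul_comm (Module.finrank k B)]
  exact (Nat.eq_of_mul_eq_mul_right Module.finrank_pos h).symm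

theorem centralizer_centralizer :
    Subalgebra.centralizer k (Subalgebra.centralizer k (B : Set A) : Set A) = B := by
  have := isSimpleRing_centralizer k A B
  have h1 := finrank_centralizer k A B
  have h2 := finrank_centralizer k A (Subalgebra.centralizer k (B : Set A))
  have hle : B ≤ Subalgebra.centralizer k (Subalgebra.centralizer k (B : Set A) : Set A) :=
    fun x hx => (Subalgebra.mem_centralizer_iff k).2 fun y hy =>
      (((Subalgebra.mem_centralizer_iff k).1 hy) x hx).symm
  rw [h1, mul_comm] at h2
  have h3 := Nat.eq_of_mul_eq_mul_left Module.finrank_pos h2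
  exact (Subalgebra.toSubmodule_injective
    (Submodule.eq_of_le_of_finrank_le (Subalgebra.toSubmodule.monotone hle) h3.ge)).symm

theorem tensor_centralizer_bijective [Algebra.IsCentral k B] :
    Function.Bijective (Algebra.TensorProduct.lift B.val
      (Subalgebra.centralizer k (B : Set A)).val (fun x y => y.2 x.1 x.2)) := by
  have := isSimpleRing_centralizer k A B
  have : IsSimpleRing (B ⊗[k] Subalgebra.centralizer k (B : Set A)) :=
    Azumaya.isSimpleRing_tensor k B _
  let f := Algebra.TensorProduct.lift B.val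
      (Subalgebra.centralizer k (B : Set A)).val (fun x y => y.2 x.1 x.2)
  have hinj : Function.Injective f := RingHom.injective f.toRingHom
  exact ⟨hinj, (LinearMap.injective_iff_surjective_of_finrank_eq_finrank (f := f.toLinearMap)
    (by rw [Module.finrank_tensorProduct, ← finrank_centralizer k A B])).mp hinj⟩

end Groth.Agent.CSALib
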