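import Groth.Agent.Brauer.Period
import Groth.Agent.CSALib.Centralizer

/-!
# Splitting fields of central simple algebras
-/

set_option autoImplicit false

universe u v w

open TensorProduct MulOpposite

namespace Groth.Agent.CSALib

variable {k : Type u} [Field k]

theorem splits_congr {A : Type v} [Ring A] [Algebra k A] {B : Type v} [Ring B] [Algebra k B]
    (e : A ≃ₐ[k] B) {L : Type w} [Field L] [Algebra k L] (h : Curves.Splits k A L) :
    Curves.Splits k B L := by
  obtain ⟨n, hn, ⟨f⟩⟩ := h
  exact ⟨n, hn, ⟨(Algebra.TensorProduct.congr AlgEquiv.refl e.symm).trans f⟩⟩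

theorem splits_op {A : Type v} [Ring A] [Algebra k A] (hA : Brauer.IsCSA k A)
    {L : Type w} [Field L] [Algebra k L] (h : Curves.Splits k A L) :
    Curves.Splits k Aᵐᵒᵖ L := by
  rw [Brauer.splits_iff hA] at h
  rw [Brauer.splits_iff hA.op]
  obtain ⟨N, f, h0, hN⟩ := h
  let f' : A →ₐ[k] Matrix (Fin N) (Fin N) L :=
    (f.restrictScalars k).comp Algebra.TensorProduct.includeRight
  let g : Aᵐᵒᵖ →ₐ[k] Matrix (Fin N) (Fin N) L :=
    ((Matrix.transposeAlgEquiv (Fin N) k L).symm.toAlgHom).comp (AlgHom.op f')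
  refine ⟨N, Algebra.TensorProduct.lift (Algebra.ofId L _) g (fun x y => Algebra.commutes x _), h0, ?_⟩
  rw [Module.finrank_baseChange] at hN ⊢
  rwa [← (MulOpposite.opLinearEquiv k : A ≃ₗ[k] Aᵐᵒᵖ).finrank_eq]

/-- A field whose degree squares to the dimension and embeds, splits. -/
theorem splits_of_subfield (B : Type v) [Ring B] [Algebra k B] (hB : Brauer.IsCSA k B)
    (L : Type w) [Field L] [Algebra k L] [FiniteDimensional k L] (ι : L →ₐ[k] B)
    (hdim : Module.finrank k B = Module.finrank k L ^ 2) : Curves.Splits k B L := by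
  have key : Curves.Splits k Bᵐᵒᵖ L := by
    have := hB.finite
    let : Module L B := Module.compHom B ι.toRingHom
    have hsmul : ∀ (a : L) (x : B), a • x = ι a * x := fun _ _ => rfl
    have : IsScalarTower k L B := ⟨fun r a x => by
      rw [hsmul, hsmul, map_smul, smul_mul_assoc]⟩
    have : FiniteDimensional L B := Module.Finite.of_restrictScalars_finite k L B
    let lam : Bᵐᵒᵖ →ₐ[k] Module.End L B :=
      { toFun := fun y => { toFun := fun x => x * y.unop
                            map_add' := fun a b => add_mul a b _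
                            map_smul' := fun a x => by
                              rw [RingHom.id_apply, hsmul, hsmul, mul_assoc] }
        map_one' := LinearMap.ext fun x => mul_one x
        map_mul' := fun y z => LinearMap.ext fun x => (mul_assoc x z.unop y.unop).symm
        map_zero' := LinearMap.ext fun x => mul_zero x
        map_add' := fun y z => LinearMap.ext fun x => mul_add x y.unop z.unop
        commutes' := fun c => LinearMap.ext fun x => by
          show x * algebraMap k B c = c • x
          rw [← Algebra.commutes, Algebra.smul_def] }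
    let f : L ⊗[k] Bᵐᵒᵖ →ₐ[L] Module.End L B :=
      Algebra.TensorProduct.lift (Algebra.ofId L _) lam fun a y => Algebra.commutes a _
    have := (hB.op.baseChange L).simple
    have := hB.nontrivial
    have : Nontrivial (Module.End L B) := inferInstance
    have hinj : Function.Injective f := RingHom.injective f.toRingHom
    have hm : Module.finrank L B = Module.finrank k L := by
      have h := Module.finrank_mul_finrank k L B
      rw [hdim, sq] at h
      exact Nat.eq_of_mul_eq_mul_left Module.finrank_pos h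
    have hd : Module.finrank L (L ⊗[k] Bᵐᵒᵖ) = Module.finrank L (Module.End L B) := by
      rw [Module.finrank_baseChange, Module.finrank_linearMap, hm,
        ← (MulOpposite.opLinearEquiv k : B ≃ₗ[k] Bᵐᵒᵖ).finrank_eq, hdim, sq]
    have hsurj : Function.Surjective f :=
      (LinearMap.injective_iff_surjective_of_finrank_eq_finrank (f := f.toLinearMap) hd).mp hinj
    exact ⟨Module.finrank k L, Module.finrank_pos.ne',
      ⟨(AlgEquiv.ofBijective f ⟨hinj, hsurj⟩).trans
        (algEquivMatrix (Module.finBasisOfFinrankEq L B hm))⟩⟩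
  exact splits_congr (AlgEquiv.opOp k B).symm (splits_op hB.op key)

theorem isCSA_matrix {D : Type v} [Ring D] [Algebra k D] (hD : Brauer.IsCSA k D) (m : ℕ) [NeZero m] :
    Brauer.IsCSA k (Matrix (Fin m) (Fin m) D) := by
  have := hD.central; have := hD.simple; have := hD.finite
  exact ⟨inferInstance, inferInstance, inferInstance⟩

/-- Base change commutes with matrices. -/
noncomputable def tensorMatrixEquiv (L : Type w) [Field L] [Algebra k L] (D : Type v) [Ring D]
    [Algebra k D] (m : ℕ) :
    L ⊗[k] Matrix (Fin m) (Fin m) D ≃ₐ[L] Matrix (Fin m) (Fin m) (L ⊗[k] D) :=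
  ((Algebra.TensorProduct.congr (Matrix.uniqueAlgEquiv (m := Unit) (A := L) (R := L)).symm
    AlgEquiv.refl).trans (Matrix.kroneckerTMulAlgEquiv Unit (Fin m) k L L D)).trans
      (Matrix.reindexAlgEquiv L _ (Equiv.uniqueProd (Fin m) Unit))

theorem splits_matrix_iff {D : Type v} [Ring D] [Algebra k D] (hD : Brauer.IsCSA k D) (m : ℕ)
    [NeZero m] {L : Type w} [Field L] [Algebra k L] :
    Curves.Splits k (Matrix (Fin m) (Fin m) D) L ↔ Curves.Splits k D L := by
  rw [Brauer.splits_iff (isCSA_matrix hD m), Brauer.splits_iff hD,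
    Brauer.indDvd_congr (tensorMatrixEquiv L D m), Brauer.indDvd_matrix_iff]

theorem degree_dvd_of_splits {D : Type v} [DivisionRing D] [Algebra k D] (hD : Brauer.IsCSA k D)
    {d : ℕ} (hd : Module.finrank k D = d ^ 2) {L : Type w} [Field L] [Algebra k L]
    [FiniteDimensional k L] (h : Curves.Splits k D L) : d ∣ Module.finrank k L := by
  have h1 := ((Brauer.splits_iff hD L).mp h).restrict L
  have hd0 : 0 < d := Nat.pos_of_ne_zero fun h0 => by
    have := hD.finrank_pos
    simp [hd, h0] at this
  rw [one_mul, Brauer.indDvd_division hd0 (hd.trans (sq d))] at h1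
  exact h1.2

/-- A splitting field embeds in a matrix algebra over the division algebra of matching size. -/
theorem exists_embedding {D : Type u} [DivisionRing D] [Algebra k D] (hD : Brauer.IsCSA k D)
    {d : ℕ} (hd : Module.finrank k D = d ^ 2) {L : Type u} [Field L] [Algebra k L]
    [FiniteDimensional k L] (h : Curves.Splits k D L) :
    ∃ j, Module.finrank k L = d * j ∧ Nonempty (L →ₐ[k] Matrix (Fin j) (Fin j) D) := by
  obtain ⟨N, hN0, ⟨e⟩⟩ := splits_op hD h
  have := hD.finite
  obtain rfl : N = d := by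
    have h1 := e.toLinearEquiv.finrank_eq
    rw [Module.finrank_baseChange, Module.finrank_matrix, Fintype.card_fin, Module.finrank_self,
      mul_one, ← (MulOpposite.opLinearEquiv k : D ≃ₗ[k] Dᵐᵒᵖ).finrank_eq, hd, sq] at h1
    exact (Nat.mul_self_inj.1 h1).symm
  let ρ : L ⊗[k] Dᵐᵒᵖ →ₐ[L] Module.End L (Fin N → L) :=
    Matrix.toLinAlgEquiv'.toAlgHom.comp e.toAlgHom
  let ρ' : Dᵐᵒᵖ →ₐ[k] Module.End L (Fin N → L) :=
    (ρ.restrictScalars k).comp Algebra.TensorProduct.includeRight
  let : Module Dᵐᵒᵖ (Fin N → L) := Module.compHom _ ρ'.toRingHom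
  have hsmul : ∀ (y : Dᵐᵒᵖ) (v : Fin N → L), y • v = ρ' y v := fun _ _ => rfl
  have : IsScalarTower k Dᵐᵒᵖ (Fin N → L) := ⟨fun r y v => by
    rw [hsmul, hsmul, map_smul]; rfl⟩
  have : SMulCommClass L Dᵐᵒᵖ (Fin N → L) := ⟨fun a y v => (map_smul (ρ' y) a v).symm⟩
  have : SMulCommClass Dᵐᵒᵖ L (Fin N → L) := SMulCommClass.symm _ _ _
  have : Module.Finite Dᵐᵒᵖ (Fin N → L) := Module.Finite.of_restrictScalars_finite k Dᵐᵒᵖ _
  let j := Module.finrank Dᵐᵒᵖ (Fin N → L)
  have hj := Module.finrank_mul_finrank k Dᵐᵒᵖ (Fin N → L)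
  rw [← (MulOpposite.opLinearEquiv k : D ≃ₗ[k] Dᵐᵒᵖ).finrank_eq, hd,
    Module.finrank_pi_fintype, Finset.sum_const, Finset.card_univ, Fintype.card_fin, smul_eq_mul,
    sq, mul_assoc] at hj
  have hd0 : 0 < N := Nat.pos_of_ne_zero hN0
  refine ⟨j, (Nat.eq_of_mul_eq_mul_left hd0 hj).symm, ⟨?_⟩⟩
  exact (((((Module.finBasis Dᵐᵒᵖ (Fin N → L)).equivFun.conjAlgEquiv k).trans
    (endVecAlgEquivMatrixEnd ..)).trans ((AlgEquiv.moduleEndSelf k).symm.mapMatrix)).trans
      (AlgEquiv.opOp k D).symm.mapMatrix).toAlgHom.comp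
      (Algebra.lsmul k Dᵐᵒᵖ (Fin N → L))

end Groth.Agent.CSALib
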